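/-
A conjugacy class of involutions with a regular abelian subgroup: the permutation character
(towards Bender's theorem, free case C7; owner: helper57).

`RegularClass v J C` : `J` is abelian, regular on the class of the involution `v`, `C ≤ C(v)`
normalises `J` fixed point freely, and `J` is TI with normaliser `J C`.

Main results (namespace `Cfsg.Agent.Bender.RegularClass`):
* `classInner_perm_linear` : the permutation character is regular on `J`
* `exists_unique_constituent` : each linear character of `J` lies in exactly one constituent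
* `orbit_card` : `C` acts freely on the non-trivial linear characters of `J`
-/
import Cfsg.Agent.Lib.Char.Perm
import Cfsg.Agent.Lib.Char.Linear

set_option autoImplicit false
set_option linter.style.haveILetI false
set_option linter.unusedSectionVars false

namespace Cfsg.Agent.Bender

open Cfsg Cfsg.Agent.Char
open scoped ComplexConjugate

universe u

variable {X : Type u} [Group X]

/-- A class of involutions with a regular abelian TI subgroup `J` and a fixed point free
complement `C ≤ C(v)`. -/
structure RegularClass (v : X) (J C : Subgroup X) : Prop where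
  two : orderOf v = 2
  comm : ∀ x ∈ J, ∀ y ∈ J, Commute x y
  norm : C ≤ Subgroup.normalizer (J : Set X)
  cent : ∀ c ∈ C, Commute c v
  semireg : ∀ j ∈ J, Commute j v → j = 1
  trans : ∀ g : X, ∃ j ∈ J, g * v * g⁻¹ = j * v * j⁻¹
  fpf : ∀ c ∈ C, ∀ j ∈ J, Commute c j → c = 1 ∨ j = 1
  ti : ∀ h : X, ∀ x ∈ J, x ≠ 1 → h * x * h⁻¹ ∈ J → ∃ j ∈ J, ∃ c ∈ C, h = j * c
  oddJ : Odd (Nat.card J)
  oddC : Odd (Nat.card C)
  coprime : (Nat.card C).Coprime (Nat.card J)

namespace RegularClass

variable {v : X} {J C : Subgroup X}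

/-- The number of fixed conjugates of `v`. -/
noncomputable def perm (v : X) : X → ℂ := fun g =>
  (Nat.card (MulAction.fixedBy (X ⧸ Subgroup.centralizer ({v} : Set X)) g) : ℂ)

/-- Restriction to a subgroup. -/
def res (J : Subgroup X) (f : X → ℂ) : J → ℂ := fun j => f j

theorem mem_cent {g : X} : g ∈ Subgroup.centralizer ({v} : Set X) ↔ Commute g v :=
  Subgroup.mem_centralizer_singleton_iff

theorem commute_of_conj_eq {g : X} (h : g * v * g⁻¹ = v) : Commute g v :=
  mul_inv_eq_iff_eq_mul.1 h

theorem exists_mem_mul (h : RegularClass v J C) (g : X) :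
    ∃ j ∈ J, ∃ s, Commute s v ∧ g = j * s := by
  obtain ⟨j, hj, e⟩ := h.trans g
  refine ⟨j, hj, j⁻¹ * g, commute_of_conj_eq ?_, by group⟩
  calc j⁻¹ * g * v * (j⁻¹ * g)⁻¹ = j⁻¹ * (g * v * g⁻¹) * j := by group
    _ = v := by rw [e]; group

theorem bijective_mk (h : RegularClass v J C) :
    Function.Bijective (fun j : J => ((j : X) : X ⧸ Subgroup.centralizer ({v} : Set X))) := by
  refine ⟨fun a b e => ?_, fun q => ?_⟩
  · exact Subtype.ext (inv_mul_eq_one.1
      (h.semireg _ (mul_mem (inv_mem a.2) b.2) (mem_cent.1 (QuotientGroup.eq.1 e))))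
  · obtain ⟨g, rfl⟩ := QuotientGroup.mk_surjective q
    obtain ⟨j, hj, s, hs, rfl⟩ := h.exists_mem_mul g
    exact ⟨⟨j, hj⟩, (QuotientGroup.mk_mul_of_mem j (mem_cent.2 hs)).symm⟩

theorem index_cent (h : RegularClass v J C) :
    (Subgroup.centralizer ({v} : Set X)).index = Nat.card J :=
  (Nat.card_congr (Equiv.ofBijective _ h.bijective_mk)).symm

theorem perm_one [Finite X] (h : RegularClass v J C) : perm v 1 = (Nat.card J : ℂ) := by
  rw [perm, ← h.index_cent, Nat.cast_inj]
  rw [MulAction.fixedBy_one_eq_univ, Nat.card_univ]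
  rfl

theorem perm_apply_eq_zero [Finite X] (h : RegularClass v J C) {j : X} (hj : j ∈ J) (h1 : j ≠ 1) :
    perm v j = 0 := by
  have : IsEmpty (MulAction.fixedBy (X ⧸ Subgroup.centralizer ({v} : Set X)) j) := by
    refine ⟨fun ⟨q, hq⟩ => h1 ?_⟩
    obtain ⟨⟨k, hk⟩, rfl⟩ := h.bijective_mk.2 q
    have e : (⟨j * k, mul_mem hj hk⟩ : J) = ⟨k, hk⟩ := h.bijective_mk.1 hq
    simpa using congrArg Subtype.val e
  rw [perm, Nat.card_of_isEmpty, Nat.cast_zero]

theorem isCharacter_perm [Finite X] (v : X) : IsCharacter X (perm v) :=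
  isCharacter_fixedPoints _

section inner

variable [Fintype X] [Fintype J]

theorem classInner_perm_linear (h : RegularClass v J C) (l : IrrCharacter J) :
    classInner (res J (perm v)) (l : J → ℂ) = 1 := by
  rw [classInner, Finset.sum_eq_single (1 : J)]
  · rw [res, OneMemClass.coe_one, h.perm_one,
      apply_one_eq_one_of_comm (fun a b => Subtype.ext (h.comm a a.2 b b.2).eq) l, map_one, mul_one,
      inv_mul_cancel₀ (Nat.cast_ne_zero.2 Nat.card_pos.ne')]
  · intro j _ hj
    rw [res, h.perm_apply_eq_zero j.2 fun e => hj (Subtype.ext e), zero_mul]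
  · exact fun hc => absurd (Finset.mem_univ _) hc

theorem isCharacter_res (χ : IrrCharacter X) : IsCharacter J (res J (χ : X → ℂ)) :=
  IsCharacter.restrict (IsIrrCharacter.isCharacter χ.2) J

/-- Multiplicity of a linear character of `J` in a character of `X`. -/
noncomputable def mult (J : Subgroup X) [Fintype J] (χ : IrrCharacter X) (l : IrrCharacter J) :
    ℕ :=
  (IsCharacter.classInner_nat (isCharacter_res (J := J) χ) (IsIrrCharacter.isCharacter l.2)).choose

theorem classInner_res (χ : IrrCharacter X) (l : IrrCharacter J) :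
    classInner (res J (χ : X → ℂ)) (l : J → ℂ) = mult J χ l :=
  (IsCharacter.classInner_nat (isCharacter_res (J := J) χ) (IsIrrCharacter.isCharacter l.2)).choose_spec

theorem apply_one_eq_sum [Fintype (IrrCharacter J)] (hJ : ∀ a b : J, a * b = b * a)
    (χ : IrrCharacter X) : (χ : X → ℂ) 1 = ∑ l : IrrCharacter J, (mult J χ l : ℂ) := by
  obtain ⟨m, hm, hm'⟩ := IsCharacter.decompose (isCharacter_res (J := J) χ)
  have e := congrFun hm 1
  simp only [res, OneMemClass.coe_one, Finset.sum_apply, Pi.smul_apply, smul_eq_mul] at e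
  rw [e]
  refine Finset.sum_congr rfl fun l _ => ?_
  rw [apply_one_eq_one_of_comm hJ l, mul_one, ← hm', classInner_res]

/-- Multiplicity of a character in the permutation character. -/
noncomputable def permMult (v : X) (χ : IrrCharacter X) : ℕ :=
  (IsCharacter.classInner_nat (isCharacter_perm v) (IsIrrCharacter.isCharacter χ.2)).choose

theorem classInner_perm (χ : IrrCharacter X) :
    classInner (perm v) (χ : X → ℂ) = permMult v χ :=
  (IsCharacter.classInner_nat (isCharacter_perm v) (IsIrrCharacter.isCharacter χ.2)).choose_spec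

theorem sum_mult [Fintype (IrrCharacter X)] (h : RegularClass v J C) (l : IrrCharacter J) :
    ∑ χ : IrrCharacter X, permMult v χ * mult J χ l = 1 := by
  obtain ⟨m, hm, hm'⟩ := IsCharacter.decompose (isCharacter_perm v)
  have hm'' : ∀ χ, m χ = permMult v χ := fun χ =>
    Nat.cast_injective (R := ℂ) ((hm' χ).symm.trans (classInner_perm χ))
  have e : res J (perm v) = ∑ χ : IrrCharacter X, (permMult v χ : ℂ) • res J (χ : X → ℂ) := by
    funext j
    rw [res, congrFun hm (j : X)]
    simp [res, hm'', Finset.sum_apply]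
  have h2 := h.classInner_perm_linear l
  rw [e, classInner_sum_left] at h2
  simp only [classInner_smul_left, classInner_res] at h2
  exact_mod_cast h2

theorem exists_constituent [Fintype (IrrCharacter X)] (h : RegularClass v J C)
    (l : IrrCharacter J) :
    ∃ χ : IrrCharacter X, permMult v χ = 1 ∧ mult J χ l = 1 ∧
      ∀ χ' : IrrCharacter X, permMult v χ' ≠ 0 → mult J χ' l ≠ 0 → χ' = χ := by
  classical
  have hs := h.sum_mult l
  obtain ⟨χ, -, hχ⟩ := Finset.exists_ne_zero_of_sum_ne_zero
    (f := fun χ : IrrCharacter X => permMult v χ * mult J χ l) (by rw [hs]; exact one_ne_zero)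
  rw [← Finset.add_sum_erase _ _ (Finset.mem_univ χ)] at hs
  have h0 : 0 < permMult v χ * mult J χ l := Nat.pos_of_ne_zero hχ
  obtain ⟨h1, h2⟩ := mul_eq_one.1 (show permMult v χ * mult J χ l = 1 by omega)
  refine ⟨χ, h1, h2, fun χ' hp hm => ?_⟩
  by_contra hne
  have hz : ∑ x ∈ Finset.univ.erase χ, permMult v x * mult J x l = 0 := by omega
  rcases Nat.mul_eq_zero.1 (Finset.sum_eq_zero_iff.1 hz χ'
    (Finset.mem_erase.2 ⟨hne, Finset.mem_univ _⟩)) with e | e
  · exact hp e
  · exact hm e

end inner

/-- Conjugation by an element of `C`, on `J`. -/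
def conjJ (h : RegularClass v J C) (c : C) : J ≃* J where
  toFun j := ⟨c * j * (c : X)⁻¹, (Subgroup.mem_normalizer_iff.1 (h.norm c.2) j).1 j.2⟩
  invFun j := ⟨(c : X)⁻¹ * j * c, by
    simpa using (Subgroup.mem_normalizer_iff.1 (h.norm (inv_mem c.2)) j).1 j.2⟩
  left_inv j := Subtype.ext (by simp [mul_assoc])
  right_inv j := Subtype.ext (by simp [mul_assoc])
  map_mul' a b := Subtype.ext (by simp [mul_assoc])

@[simp] theorem coe_conjJ (h : RegularClass v J C) (c : C) (j : J) :
    ((h.conjJ c j : J) : X) = c * j * (c : X)⁻¹ := rfl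

/-- The action of `C` on linear characters of `J`. -/
noncomputable def twist (h : RegularClass v J C) (c : C) (l : IrrCharacter J) : IrrCharacter J :=
  ⟨fun j => (l : J → ℂ) (h.conjJ c j), IsIrrCharacter.comp_equiv l.2 (h.conjJ c)⟩

theorem twist_one (h : RegularClass v J C) (l : IrrCharacter J) : h.twist 1 l = l := by
  refine Subtype.ext (funext fun j => ?_)
  exact congrArg (l : J → ℂ) (Subtype.ext (by simp))

theorem twist_twist (h : RegularClass v J C) (c d : C) (l : IrrCharacter J) :
    h.twist d (h.twist c l) = h.twist (c * d) l := by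
  refine Subtype.ext (funext fun j => ?_)
  exact congrArg (l : J → ℂ) (Subtype.ext (by simp [mul_assoc]))

/-- The trivial character. -/
noncomputable def triv (X : Type u) [Group X] : IrrCharacter X := ⟨1, isIrrCharacter_one⟩

theorem twist_triv (h : RegularClass v J C) (c : C) : h.twist c (triv J) = triv J := rfl

theorem twist_eq_self [Finite X] (h : RegularClass v J C) {c : C} {l : IrrCharacter J}
    (e : h.twist c l = l) : c = 1 ∨ l = triv J := by
  by_cases hc : c = 1
  · exact Or.inl hc
  refine Or.inr (Subtype.ext (funext fun k => ?_))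
  have hJ : ∀ a b : J, a * b = b * a := fun a b => Subtype.ext (h.comm a a.2 b b.2).eq
  have hinj : Function.Injective (fun j : J => j⁻¹ * h.conjJ c j) := by
    intro a b hab
    have e1 : h.conjJ c (b * a⁻¹) = b * a⁻¹ := by
      have e2 : a⁻¹ * h.conjJ c a = b⁻¹ * h.conjJ c b := hab
      have e3 : h.conjJ c b = b * (a⁻¹ * h.conjJ c a) := by rw [e2, mul_inv_cancel_left]
      rw [map_mul, map_inv, e3, ← mul_assoc b, mul_assoc, mul_inv_cancel, mul_one]
    have e4 : Commute (c : X) ((b * a⁻¹ : J) : X) :=
      mul_inv_eq_iff_eq_mul.1 (congrArg Subtype.val e1)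
    rcases h.fpf c c.2 _ (b * a⁻¹).2 e4 with h1 | h1
    · exact absurd (Subtype.ext h1) hc
    · exact (mul_inv_eq_one.1 (Subtype.ext (a2 := (1 : J)) h1)).symm
  obtain ⟨j, rfl⟩ := (Finite.injective_iff_surjective.1 hinj) k
  obtain ⟨f, hf⟩ := exists_hom_of_degree_one (IsIrrCharacter.isCharacter l.2)
    (apply_one_eq_one_of_comm hJ l)
  have e5 : (l : J → ℂ) (h.conjJ c j) = (l : J → ℂ) j :=
    congrFun (congrArg Subtype.val e) j
  show (l : J → ℂ) (j⁻¹ * h.conjJ c j) = 1
  rw [← hf, map_mul, congrFun hf (h.conjJ c j), e5, ← congrFun hf j, ← map_mul, inv_mul_cancel,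
    map_one]

theorem twist_injective [Finite X] (h : RegularClass v J C) {l : IrrCharacter J}
    (hl : l ≠ triv J) : Function.Injective (fun c : C => h.twist c l) := by
  intro c d e
  have e1 : h.twist (c * d⁻¹) l = l := by
    rw [← h.twist_twist, show h.twist c l = h.twist d l from e, h.twist_twist, mul_inv_cancel,
      h.twist_one]
  exact mul_inv_eq_one.1 ((h.twist_eq_self e1).resolve_right hl)

theorem mult_twist [Fintype X] [Fintype J] (h : RegularClass v J C) (χ : IrrCharacter X)
    (c : C) (l : IrrCharacter J) : mult J χ (h.twist c l) = mult J χ l := by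
  refine Nat.cast_injective (R := ℂ) ?_
  rw [← classInner_res, ← classInner_res]
  have e : res J (χ : X → ℂ) = fun j => res J (χ : X → ℂ) (h.conjJ c j) := funext fun j =>
    (IsIrrCharacter.isClassFunction χ.2 (j : X) (c : X)).symm
  conv_lhs => rw [e]
  exact classInner_comp_equiv (h.conjJ c) _ _

end RegularClass

end Cfsg.Agent.Bender
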