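/-
A conjugacy class of involutions with a regular abelian TI subgroup commutes modulo the odd core
(Bender's theorem, free case C7 for a fixed point free complement; owner: helper57).

Main results (namespace `Cfsg.Agent.Bender`):
* `RegularClass.dichotomy` : the non-trivial linear characters of `J` lie in one constituent of the
  permutation character, or some constituent contains a single `C`-orbit
* `commutator_mem_core_of_normal` : from a normal subgroup to the whole group
* `RegularClass.commutator_mem_core` : all conjugates of `v` commute with it modulo the odd core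
* `coreTwo_of_regularClass` : the form `CoreTwo H`
-/
import Cfsg.Agent.Lib.Bender.RegularClass.Perm
import Cfsg.Agent.Lib.Bender.CoreTwo
import Cfsg.Agent.Lib.Char.Integral
import Cfsg.Agent.Lib.ZStar.Unique
import Cfsg.Agent.Lib.ZStar.Glauberman
import Cfsg.Agent.Lib.Cores.Basic

set_option autoImplicit false
set_option linter.style.haveILetI false
set_option linter.unusedSectionVars false

namespace Cfsg.Agent.Bender

open Cfsg Cfsg.Agent.Char
open scoped ComplexConjugate

universe u

variable {X : Type u} [Group X]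

namespace RegularClass

variable {v : X} {J C : Subgroup X}

section characters

variable [Fintype X] [Fintype J] [Fintype C] [Fintype (IrrCharacter X)]

/-- The constituent of the permutation character containing a given linear character of `J`. -/
noncomputable def big (h : RegularClass v J C) (l : IrrCharacter J) : IrrCharacter X :=
  (h.exists_constituent l).choose

theorem permMult_big (h : RegularClass v J C) (l : IrrCharacter J) :
    permMult v (h.big l) = 1 := (h.exists_constituent l).choose_spec.1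

theorem mult_big_self (h : RegularClass v J C) (l : IrrCharacter J) :
    mult J (h.big l) l = 1 := (h.exists_constituent l).choose_spec.2.1

theorem eq_big (h : RegularClass v J C) {χ : IrrCharacter X} {l : IrrCharacter J}
    (hp : permMult v χ ≠ 0) (hm : mult J χ l ≠ 0) : χ = h.big l :=
  (h.exists_constituent l).choose_spec.2.2 χ hp hm

open Classical in
theorem mult_big (h : RegularClass v J C) (l m : IrrCharacter J) :
    mult J (h.big l) m = if h.big m = h.big l then 1 else 0 := by
  split_ifs with e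
  · rw [← e, mult_big_self]
  · by_contra hm
    exact e (h.eq_big (by rw [permMult_big]; exact one_ne_zero) hm).symm

theorem perm_eq_indFun (v : X) :
    perm v = indFun (Subgroup.centralizer ({v} : Set X))
      (1 : Subgroup.centralizer ({v} : Set X) → ℂ) :=
  funext fun g => (indFun_one_eq_fixedPoints _ g).symm

theorem classInner_one_res (v : X) [Fintype (Subgroup.centralizer ({v} : Set X))]
    (χ : IrrCharacter X) :
    classInner (1 : Subgroup.centralizer ({v} : Set X) → ℂ)
      (res (Subgroup.centralizer ({v} : Set X)) (χ : X → ℂ)) = permMult v χ := by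
  rw [← classInner_perm, perm_eq_indFun,
    frobenius_reciprocity _ _ (IsIrrCharacter.isClassFunction χ.2)]
  rfl

theorem big_triv (h : RegularClass v J C) : h.big (triv J) = triv X := by
  haveI := Fintype.ofFinite (Subgroup.centralizer ({v} : Set X))
  have hp : permMult v (triv X) = 1 := by
    refine Nat.cast_injective (R := ℂ) ?_
    rw [← classInner_one_res, Nat.cast_one]
    exact classInner_irr_self isIrrCharacter_one
  have hm : mult J (triv X) (triv J) = 1 := by
    refine Nat.cast_injective (R := ℂ) ?_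
    rw [← classInner_res, Nat.cast_one]
    exact classInner_irr_self isIrrCharacter_one
  exact (h.eq_big (by omega) (by omega)).symm

theorem eq_triv_of_big_eq (h : RegularClass v J C) {l : IrrCharacter J}
    (e : h.big l = triv X) : l = triv J := by
  by_contra hl
  have h1 := classInner_res (h.big l) l
  rw [h.mult_big_self, Nat.cast_one, e] at h1
  exact one_ne_zero (h1.symm.trans (classInner_irr_of_ne isIrrCharacter_one l.2
    (fun e' => hl (Subtype.ext e').symm)))

theorem big_twist (h : RegularClass v J C) (c : C) (l : IrrCharacter J) :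
    h.big (h.twist c l) = h.big l :=
  (h.eq_big (by rw [h.permMult_big]; exact one_ne_zero)
    (by rw [h.mult_twist, h.mult_big_self]; exact one_ne_zero)).symm

/-- The function induced from a difference of two linear characters of `J`. -/
noncomputable def phi (J : Subgroup X) (l m : IrrCharacter J) : X → ℂ :=
  indFun J ((l : J → ℂ) - (m : J → ℂ))

theorem phi_isClassFunction (l m : IrrCharacter J) : IsClassFunction X (phi J l m) :=
  indFun_isClassFunction _ _

theorem res_phi (h : RegularClass v J C) (l m : IrrCharacter J) :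
    res J (phi J l m) = ∑ c : C, ((h.twist c l : J → ℂ) - (h.twist c m : J → ℂ)) := by
  classical
  have hJ : ∀ a b : J, a * b = b * a := fun a b => Subtype.ext (h.comm a a.2 b b.2).eq
  funext j
  rw [res, phi, Finset.sum_apply]
  by_cases hj : j = 1
  · subst hj
    rw [OneMemClass.coe_one, indFun_one_apply]
    simp [twist, apply_one_eq_one_of_comm hJ]
  set f : J → ℂ := (l : J → ℂ) - (m : J → ℂ)
  have hinj : Function.Injective (fun p : C × J => ((p.2 : X) * p.1)⁻¹) := by
    rintro ⟨c, k⟩ ⟨c', k'⟩ e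
    have e1 : (k : X) * c = k' * c' := inv_injective e
    have e2 : (k' : X)⁻¹ * k = c' * (c : X)⁻¹ := by
      rw [eq_mul_inv_iff_mul_eq, mul_assoc, e1, inv_mul_cancel_left]
    have e3 : (k' : X)⁻¹ * k = 1 := h.semireg _ (mul_mem (inv_mem k'.2) k.2)
      (e2 ▸ h.cent _ (mul_mem c'.2 (inv_mem c.2)))
    obtain rfl : k' = k := Subtype.ext (inv_mul_eq_one.1 e3)
    exact Prod.ext (Subtype.ext (mul_left_cancel e1)) rfl
  have hsum := Fintype.sum_of_injective _ hinj (fun p : C × J => f (h.conjJ p.1 j))
    (fun x => extendByZero J f (x⁻¹ * (j : X) * x)) ?_ ?_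
  · rw [indFun, ← hsum, Fintype.sum_prod_type]
    simp only [Finset.sum_const, Finset.card_univ, nsmul_eq_mul, ← Finset.mul_sum,
      ← Nat.card_eq_fintype_card]
    rw [inv_mul_cancel_left₀ (Nat.cast_ne_zero.2 Nat.card_pos.ne')]
    simp [f, twist]
  · intro x hx
    refine extendByZero_not_mem _ _ fun hm => hx ?_
    obtain ⟨k, hk, c, hc, e⟩ := h.ti x⁻¹ j j.2 (fun e => hj (Subtype.ext e))
      (by rwa [inv_inv])
    exact ⟨(⟨c, hc⟩, ⟨k, hk⟩), inv_eq_iff_eq_inv.2 (inv_inv x ▸ by simp [e])⟩
  · rintro ⟨c, k⟩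
    have e : ((k : X) * c)⁻¹⁻¹ * j * ((k : X) * c)⁻¹ = ((h.conjJ c j : J) : X) := by
      have hk := h.comm _ k.2 _ (h.conjJ c j).2
      rw [coe_conjJ] at hk ⊢
      calc ((k : X) * c)⁻¹⁻¹ * j * ((k : X) * c)⁻¹
          = (k : X) * ((c : X) * j * (c : X)⁻¹) * (k : X)⁻¹ := by group
        _ = (c : X) * j * (c : X)⁻¹ := by rw [hk.eq, mul_inv_cancel_right]
    show f (h.conjJ c j) = extendByZero J f (((k : X) * c)⁻¹⁻¹ * j * ((k : X) * c)⁻¹)
    rw [e, extendByZero_coe]

open Classical in
theorem inner_lin {G : Type*} [Group G] [Fintype G] (a b : IrrCharacter G) :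
    classInner (a : G → ℂ) (b : G → ℂ) = if a = b then 1 else 0 := by
  rw [classInner_irr a.2 b.2]
  exact if_congr Subtype.ext_iff.symm rfl rfl

open Classical in
theorem inner_phi_phi (h : RegularClass v J C) {l m n : IrrCharacter J} (hl : l ≠ triv J)
    (hln : ∀ c, h.twist c l ≠ n) (hml : ∀ c, h.twist c m ≠ l) :
    classInner (phi J l m) (phi J l n) = 1 + ∑ c : C, (if h.twist c m = n then 1 else 0) := by
  rw [show phi J l n = indFun J ((l : J → ℂ) - (n : J → ℂ)) from rfl,
    frobenius_reciprocity' _ _ (phi_isClassFunction l m)]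
  change classInner (res J (phi J l m)) _ = _
  rw [h.res_phi, classInner_sum_left]
  simp only [classInner_sub_left, classInner_sub_right, inner_lin, if_neg (hln _), if_neg (hml _),
    sub_zero, zero_sub, sub_neg_eq_add, Finset.sum_add_distrib]
  congr 1
  rw [Finset.sum_eq_single (1 : C), if_pos (h.twist_one l)]
  · intro c _ hc
    exact if_neg fun e => hc ((h.twist_eq_self e).resolve_right hl)
  · exact fun hc => absurd (Finset.mem_univ _) hc

theorem inner_phi_irr (l m : IrrCharacter J) (χ : IrrCharacter X) :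
    classInner (phi J l m) (χ : X → ℂ) = (mult J χ l : ℂ) - (mult J χ m : ℂ) := by
  rw [phi, frobenius_reciprocity _ _ (IsIrrCharacter.isClassFunction χ.2), classInner_sub_left,
    ← classInner_conj_symm (fun j : J => (χ : X → ℂ) j) (l : J → ℂ),
    ← classInner_conj_symm (fun j : J => (χ : X → ℂ) j) (m : J → ℂ)]
  show conj (classInner (res J (χ : X → ℂ)) (l : J → ℂ)) -
    conj (classInner (res J (χ : X → ℂ)) (m : J → ℂ)) = _
  rw [classInner_res, classInner_res, map_natCast, map_natCast]

theorem twist_ne_symm (h : RegularClass v J C) {l m : IrrCharacter J}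
    (e : ∀ c, h.twist c l ≠ m) (c : C) : h.twist c m ≠ l := fun e' =>
  e c⁻¹ (by rw [← e', h.twist_twist, mul_inv_cancel, h.twist_one])

/-- Two orbits in one constituent and a third one outside is impossible. -/
theorem no_split (h : RegularClass v J C) {l m n : IrrCharacter J} (hl : l ≠ triv J)
    (hlm : ∀ c, h.twist c l ≠ m) (hb : h.big m = h.big l) (hnt : n ≠ triv J)
    (hn : h.big n ≠ h.big l) : False := by
  classical
  have hln : ∀ c, h.twist c l ≠ n := fun c e => hn (by rw [← e, h.big_twist])
  have hmn : ∀ c, h.twist c m ≠ n := fun c e => hn (by rw [← e, h.big_twist, hb])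
  set a := h.big l with ha
  set b := h.big n with hb'
  have hab : (a : X → ℂ) ≠ (b : X → ℂ) := fun e => hn (Subtype.ext e).symm
  have k1 : classInner (phi J l n) (a : X → ℂ) = 1 := by
    rw [inner_phi_irr, ha, h.mult_big_self, h.mult_big, if_neg (by simpa [hb'] using hn)]
    simp
  have k2 : classInner (phi J l n) (b : X → ℂ) = -1 := by
    rw [inner_phi_irr, hb', h.mult_big_self, h.mult_big, if_neg (Ne.symm hn)]
    simp
  have k3 : classInner (phi J l m) (phi J l n) = 1 := by
    rw [h.inner_phi_phi hl hln (h.twist_ne_symm hlm), Finset.sum_eq_zero, add_zero]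
    exact fun c _ => if_neg (hmn c)
  have k4 : classInner (phi J l n) (phi J l n) = 2 := by
    rw [h.inner_phi_phi hl hln (h.twist_ne_symm hln), Finset.sum_eq_single (1 : C),
      if_pos (h.twist_one n)]
    · norm_num
    · intro c _ hc
      exact if_neg fun e => hc ((h.twist_eq_self e).resolve_right hnt)
    · exact fun hc => absurd (Finset.mem_univ _) hc
  have k5 : phi J l n - ((a : X → ℂ) - (b : X → ℂ)) = 0 := by
    refine classInner_self_eq_zero.1 ?_
    have e1 := classInner_conj_symm (phi J l n) (a : X → ℂ)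
    have e2 := classInner_conj_symm (phi J l n) (b : X → ℂ)
    rw [k1, map_one] at e1
    rw [k2, map_neg, map_one] at e2
    simp only [classInner_sub_left, classInner_sub_right]
    rw [k4, k1, k2, ← e1, ← e2, classInner_irr_self a.2, classInner_irr_self b.2,
      classInner_irr_of_ne a.2 b.2 hab, classInner_irr_of_ne b.2 a.2 hab.symm]
    norm_num
  rw [sub_eq_zero.1 k5, classInner_sub_right, inner_phi_irr, inner_phi_irr, ha, hb',
    h.mult_big, h.mult_big, h.mult_big, h.mult_big, if_pos rfl, if_pos hb, if_neg (Ne.symm hn),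
    if_neg (fun e => hn (e.symm.trans hb))] at k3
  norm_num at k3

/-- Either all non-trivial linear characters of `J` lie in one constituent, or some constituent
contains a single orbit. -/
theorem dichotomy (h : RegularClass v J C) :
    (∀ l m : IrrCharacter J, l ≠ triv J → m ≠ triv J → h.big l = h.big m) ∨
      ∃ l : IrrCharacter J, l ≠ triv J ∧
        ∀ m, h.big m = h.big l → ∃ c, h.twist c l = m := by
  refine or_iff_not_imp_left.2 fun hn => ?_
  push Not at hn
  obtain ⟨l, n, hl, hn1, hne⟩ := hn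
  refine ⟨l, hl, fun m hm => ?_⟩
  by_contra hc
  push Not at hc
  exact h.no_split hl hc hm hn1 hne.symm

theorem degree_eq_card (h : RegularClass v J C) [Fintype (IrrCharacter J)] {l : IrrCharacter J}
    (hl : l ≠ triv J) (horb : ∀ m, h.big m = h.big l → ∃ c, h.twist c l = m) :
    (h.big l : X → ℂ) 1 = (Nat.card C : ℂ) := by
  classical
  rw [apply_one_eq_sum (fun a b : J => Subtype.ext (h.comm a a.2 b b.2).eq)]
  simp only [h.mult_big, Nat.cast_ite, Nat.cast_one, Nat.cast_zero, Finset.sum_boole]
  rw [Nat.cast_inj, Nat.card_eq_fintype_card, ← Finset.card_univ,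
    ← Finset.card_image_of_injective _ (h.twist_injective hl)]
  congr 1
  ext m
  simp only [Finset.mem_filter, Finset.mem_univ, true_and, Finset.mem_image]
  exact ⟨horb m, by rintro ⟨c, rfl⟩; exact h.big_twist c l⟩

theorem inner_perm_self_le (h : RegularClass v J C) [Fintype (IrrCharacter J)]
    (hall : ∀ l m : IrrCharacter J, l ≠ triv J → m ≠ triv J → h.big l = h.big m) :
    ∃ k : ℕ, k ≤ 2 ∧ classInner (perm v) (perm v) = k := by
  classical
  obtain ⟨m, hm, hm'⟩ := IsCharacter.decompose (isCharacter_perm v)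
  have hmm : ∀ χ, m χ = permMult v χ := fun χ =>
    Nat.cast_injective (R := ℂ) ((hm' χ).symm.trans (classInner_perm χ))
  have hbig : ∀ χ, m χ ≠ 0 → ∃ l, χ = h.big l := fun χ hχ => by
    have h1 : (χ : X → ℂ) 1 ≠ 0 := IsIrrCharacter.apply_one_ne_zero χ.2
    rw [apply_one_eq_sum (fun a b : J => Subtype.ext (h.comm a a.2 b b.2).eq)] at h1
    obtain ⟨l, -, hl⟩ := Finset.exists_ne_zero_of_sum_ne_zero h1
    exact ⟨l, h.eq_big (hmm χ ▸ hχ) fun e => hl (by rw [e, Nat.cast_zero])⟩
  refine ⟨∑ χ : IrrCharacter X, m χ * m χ, ?_, ?_⟩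
  · have h01 : ∀ χ, m χ * m χ = if m χ = 0 then 0 else 1 := fun χ => by
      split_ifs with e
      · rw [e]
      · obtain ⟨l, rfl⟩ := hbig χ e
        rw [hmm, h.permMult_big]
    simp only [h01, Finset.sum_ite, Finset.sum_const_zero, zero_add, Finset.sum_const,
      smul_eq_mul, mul_one]
    obtain ⟨b, hb⟩ : ∃ b, ∀ l, l ≠ triv J → h.big l = b := by
      by_cases he : ∃ l, l ≠ triv J
      · obtain ⟨l0, hl0⟩ := he
        exact ⟨h.big l0, fun l hl => hall l l0 hl hl0⟩
      · exact ⟨triv X, fun l hl => absurd ⟨l, hl⟩ he⟩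
    refine (Finset.card_le_card (t := {triv X, b}) fun χ hχ => ?_).trans Finset.card_le_two
    obtain ⟨l, rfl⟩ := hbig χ (Finset.mem_filter.1 hχ).2
    by_cases hl : l = triv J
    · subst hl; simp [h.big_triv]
    · simp [hb l hl]
  · conv_lhs => arg 2; rw [hm]
    rw [classInner_sum_right]
    simp [classInner_smul_right, hm']

theorem commutator_mem_of_allInOne (h : RegularClass v J C) [Fintype (IrrCharacter J)]
    (hall : ∀ l m : IrrCharacter J, l ≠ triv J → m ≠ triv J → h.big l = h.big m) (g : X) :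
    v * (g * v * g⁻¹) * v⁻¹ * (g * v * g⁻¹)⁻¹ ∈ pPrimeCore 2 X := by
  classical
  set S := Subgroup.centralizer ({v} : Set X) with hS
  haveI := Fintype.ofFinite S
  obtain ⟨k, hk, hk'⟩ := h.inner_perm_self_le hall
  have horb : Nat.card (MulAction.orbitRel.Quotient S (X ⧸ S)) ≤ 2 := by
    have e : classInner (perm v) (perm v) =
        (Nat.card (MulAction.orbitRel.Quotient S (X ⧸ S)) : ℂ) := by
      nth_rw 2 [perm_eq_indFun]
      rw [frobenius_reciprocity' _ _ (IsCharacter.isClassFunction (isCharacter_perm v)),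
        ← classInner_fixedPoints_one (G := S)]
      rfl
    rw [hk', Nat.cast_inj] at e
    exact e ▸ hk
  -- the centraliser is transitive on the other conjugates
  have htr : ∀ a b : X, ¬ Commute a v → ¬ Commute b v →
      ∃ s, Commute s v ∧ b * v * b⁻¹ = s * (a * v * a⁻¹) * s⁻¹ := by
    intro a b ha hb
    let π : X → MulAction.orbitRel.Quotient S (X ⧸ S) := fun x => Quotient.mk'' (x : X ⧸ S)
    have h1 : ∀ x, π x = π 1 → Commute x v := by
      intro x hx
      obtain ⟨s, hs⟩ := MulAction.orbitRel_apply.1 (Quotient.eq''.1 hx)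
      have e : ((s : X) : X ⧸ S) = (x : X ⧸ S) := by
        rw [← hs]
        show _ = ((((s : X) * 1 : X)) : X ⧸ S)
        rw [mul_one]
      have h2 : Commute ((s : X)⁻¹ * x) v := mem_cent.1 (QuotientGroup.eq.1 e)
      simpa using (mem_cent.1 s.2).mul_left h2
    have h2 : π b = π a := by
      by_contra hne
      have h3 : ({π 1, π a, π b} : Finset _).card = 3 :=
        Finset.card_eq_three.2 ⟨_, _, _, fun e => ha (h1 a e.symm), fun e => hb (h1 b e.symm),
          fun e => hne e.symm, rfl⟩
      haveI := Fintype.ofFinite (MulAction.orbitRel.Quotient S (X ⧸ S))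
      have h4 := Finset.card_le_univ ({π 1, π a, π b} : Finset _)
      rw [h3, ← Nat.card_eq_fintype_card] at h4
      omega
    obtain ⟨s, hs⟩ := MulAction.orbitRel_apply.1 (Quotient.eq''.1 h2)
    have e : (((s : X) * a : X) : X ⧸ S) = (b : X ⧸ S) := hs
    have h5 : Commute (((s : X) * a)⁻¹ * b) v := mem_cent.1 (QuotientGroup.eq.1 e)
    refine ⟨s, mem_cent.1 s.2, ?_⟩
    calc b * v * b⁻¹ = (s * a) * ((((s : X) * a)⁻¹ * b) * v * (((s : X) * a)⁻¹ * b)⁻¹) *
          (s * a)⁻¹ := by group
      _ = s * (a * v * a⁻¹) * (s : X)⁻¹ := by rw [h5.eq, mul_inv_cancel_right]; group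
  have hfix : ∀ a : X, Commute a v → a * v * a⁻¹ = v := fun a ha => by
    rw [ha.eq, mul_inv_cancel_right]
  by_cases hc : Commute v (g * v * g⁻¹)
  · rw [hc.eq, mul_inv_cancel_right, mul_inv_cancel]
    exact one_mem _
  refine ZStar.zStar_of_brauerSuzuki ZStar.uniqueInvolution ⟨h.two, fun a ha => ?_⟩ _
  by_contra hne
  refine hc ?_
  by_cases hgv : Commute g v
  · rw [hfix g hgv]
  obtain ⟨s, hs, e⟩ := htr a g (fun e' => hne (hfix a e')) hgv
  rw [e]
  have := (Commute.conj_iff s).2 ha
  rwa [hfix s hs] at this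

/-- A constituent of degree `|C|` puts `v` into a proper normal kernel. -/
theorem exists_normal_of_orbit (h : RegularClass v J C) [Fintype (IrrCharacter J)]
    {l : IrrCharacter J} (hl : l ≠ triv J)
    (horb : ∀ m, h.big m = h.big l → ∃ c, h.twist c l = m) :
    ∃ N : Subgroup X, N.Normal ∧ v ∈ N ∧ N ⊔ Subgroup.centralizer ({v} : Set X) ≠ ⊤ := by
  classical
  set S := Subgroup.centralizer ({v} : Set X) with hS
  haveI := Fintype.ofFinite S
  have hdeg := h.degree_eq_card hl horb
  obtain ⟨d, ρ, hirr, hρ⟩ := (h.big l).2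
  rw [← hρ, Representation.char_one, Module.finrank_fin_fun, Nat.cast_inj] at hdeg
  have hinner : classInner (res S (h.big l : X → ℂ)) (1 : S → ℂ) = 1 := by
    rw [← classInner_conj_symm, classInner_one_res, h.permMult_big, Nat.cast_one, map_one]
  have hsum : ∑ s : S, (h.big l : X → ℂ) s = (Nat.card S : ℂ) := by
    have := card_mul_classInner (res S (h.big l : X → ℂ)) (1 : S → ℂ)
    rw [hinner, mul_one] at this
    simpa [res] using this.symm
  have hv1 : ρ v = LinearMap.id := by
    obtain ⟨b, μ, hμ, hroot⟩ := exists_eigenbasis ρ v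
    rw [h.two] at hroot
    have hpm : ∀ i, μ i = 1 ∨ μ i = -1 := fun i => sq_eq_one_iff.1 (hroot i)
    set k := (Finset.univ.filter fun i => μ i = -1).card with hk
    have hval : ρ.character v = (d : ℂ) - 2 * k := by
      rw [character_eq_sum_eigenvalues ρ v b μ hμ]
      have h1 : ∀ i, μ i = 1 - 2 * (if μ i = -1 then 1 else 0) := fun i => by
        rcases hpm i with e | e <;> rw [e] <;> norm_num
      rw [Finset.sum_congr rfl fun i _ => h1 i, Finset.sum_sub_distrib, ← Finset.mul_sum,
        Finset.sum_boole, Finset.sum_const, Finset.card_univ, Fintype.card_fin, nsmul_eq_mul,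
        mul_one, hk]
      simp
    have hd0 : (d : ℂ) ≠ 0 := Nat.cast_ne_zero.2 (hdeg ▸ Nat.card_pos.ne')
    have hint := IsIrrCharacter.isIntegral_classSize_mul_div (h.big l).2 v
    rw [← hρ, h.index_cent, Representation.char_one, Module.finrank_fin_fun] at hint
    obtain ⟨a, c, hac⟩ : ∃ a c : ℤ, a * (Nat.card J : ℤ) + c * (d : ℤ) = 1 :=
      ⟨_, _, (Int.isCoprime_iff_gcd_eq_one.2
        (by rw [Int.gcd_natCast_natCast, hdeg]; exact h.coprime.symm)).choose_spec.choose_spec⟩
    have hcast : (a : ℂ) * (Nat.card J : ℂ) + (c : ℂ) * (d : ℂ) = 1 := by exact_mod_cast hac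
    have hI : IsIntegral ℤ (ρ.character v / (d : ℂ)) := by
      have e : ρ.character v / (d : ℂ) =
          (a : ℂ) * ((Nat.card J : ℂ) * ρ.character v / (d : ℂ)) + (c : ℂ) * ρ.character v := by
        field_simp
        linear_combination -(ρ.character v) * hcast
      rw [e]
      exact ((isIntegral_algebraMap (x := a)).mul hint).add
        ((isIntegral_algebraMap (x := c)).mul (isIntegral_character ρ v))
    have hdvd : d ∣ 2 * k := by
      refine nat_dvd_of_isIntegral_div (hdeg ▸ Nat.card_pos.ne') ?_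
      have e : (((2 * k : ℕ) : ℂ) / (d : ℂ)) = 1 - ρ.character v / (d : ℂ) := by
        rw [hval]; field_simp; push_cast; ring
      rw [e]
      exact isIntegral_one.sub hI
    have hdk : d ∣ k :=
      (Nat.Coprime.symm (Nat.prime_two.coprime_iff_not_dvd.2 fun h2 =>
        Nat.not_even_iff_odd.2 (hdeg ▸ h.oddC) (even_iff_two_dvd.2 h2))).dvd_of_dvd_mul_left hdvd
    by_cases hk0 : k = 0
    · refine b.ext fun i => ?_
      have hne : μ i ≠ -1 := fun e => by
        have : 0 < k := Finset.card_pos.2 ⟨i, Finset.mem_filter.2 ⟨Finset.mem_univ _, e⟩⟩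
        omega
      rw [hμ i, (hpm i).resolve_right hne, one_smul, LinearMap.id_apply]
    · exfalso
      have hkd : k ≤ d := (Finset.card_le_univ _).trans
        (by rw [Fintype.card_fin, Module.finrank_fin_fun])
      have hkd' : k = d := le_antisymm hkd (Nat.le_of_dvd (Nat.pos_of_ne_zero hk0) hdk)
      have hall : ∀ i, μ i = -1 := fun i => by
        have e : (Finset.univ.filter fun i => μ i = -1) = Finset.univ :=
          Finset.eq_univ_of_card _ (by rw [← hk, hkd', Fintype.card_fin, Module.finrank_fin_fun])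
        have h2 : i ∈ Finset.univ.filter fun i => μ i = -1 := by rw [e]; exact Finset.mem_univ i
        exact (Finset.mem_filter.1 h2).2
      have hneg : ρ v = -LinearMap.id := b.ext fun i => by simp [hμ i, hall i]
      have hv : v ∈ S := mem_cent.2 (Commute.refl v)
      have e : ∀ s : S, (h.big l : X → ℂ) ((s * ⟨v, hv⟩ : S) : X) = -(h.big l : X → ℂ) s := by
        intro s
        rw [← hρ, Representation.character, Representation.character, Subgroup.coe_mul, map_mul,
          Module.End.mul_eq_comp, hneg]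
        simp
      have h2 := Fintype.sum_equiv (Equiv.mulRight (⟨v, hv⟩ : S))
        (fun s => (h.big l : X → ℂ) ((s * ⟨v, hv⟩ : S) : X)) (fun s => (h.big l : X → ℂ) s)
        (fun s => rfl)
      simp only [e, Finset.sum_neg_distrib, hsum] at h2
      have : (Nat.card S : ℂ) = 0 := by linear_combination -(h2) / 2
      exact Nat.card_pos.ne' (Nat.cast_eq_zero.1 this)
  refine ⟨MonoidHom.ker ρ, inferInstance, hv1, fun htop => hl ?_⟩
  refine h.eq_triv_of_big_eq ?_
  by_contra hne
  have hz : ∑ x : X, (h.big l : X → ℂ) x = 0 := by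
    have h1 := card_mul_classInner (h.big l : X → ℂ) (triv X : X → ℂ)
    rw [classInner_irr_of_ne (h.big l).2 (triv X).2 fun e => hne (Subtype.ext e), mul_zero] at h1
    simpa [triv] using h1.symm
  have hfac : ∀ x : X, ∃ s : S, ∀ t : X,
      (h.big l : X → ℂ) (x * t) = (h.big l : X → ℂ) (s * t) := by
    intro x
    have hx : x ∈ ((MonoidHom.ker ρ ⊔ S : Subgroup X) : Set X) :=
      (show x ∈ MonoidHom.ker ρ ⊔ S from htop ▸ Subgroup.mem_top x)
    rw [Subgroup.normal_mul] at hx
    obtain ⟨n, hn, s, hs, rfl⟩ := hx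
    refine ⟨⟨s, hs⟩, fun t => ?_⟩
    rw [← hρ, Representation.character, Representation.character, mul_assoc, map_mul,
      (MonoidHom.mem_ker).1 hn, one_mul]
  choose σ hσ using hfac
  have h3 : ∀ x : X, ∑ s : S, (h.big l : X → ℂ) (x * s) = (Nat.card S : ℂ) := by
    intro x
    rw [← hsum]
    exact Fintype.sum_equiv (Equiv.mulLeft (σ x)) _ _ fun s => hσ x s
  have h4 : ∑ s : S, ∑ x : X, (h.big l : X → ℂ) (x * s) = 0 := Finset.sum_eq_zero fun s _ => by
    rw [← hz]
    exact Fintype.sum_equiv (Equiv.mulRight (s : X)) _ _ fun x => rfl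
  rw [Finset.sum_comm, Finset.sum_congr rfl fun x _ => h3 x, Finset.sum_const, Finset.card_univ,
    nsmul_eq_mul, mul_eq_zero, Nat.cast_eq_zero, Nat.cast_eq_zero] at h4
  exact h4.elim Fintype.card_ne_zero Nat.card_pos.ne'

end characters

end RegularClass

/-- If an involution with odd class size commutes modulo the odd core with its conjugates under a
normal subgroup containing it, it does so with all its conjugates. -/
theorem commutator_mem_core_of_normal [Finite X] {v : X} (hv : orderOf v = 2) {N : Subgroup X}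
    (hN : N.Normal) (hvN : v ∈ N) (hodd : Odd (Subgroup.centralizer ({v} : Set X)).index)
    (hc : ∀ n ∈ N, v * (n * v * n⁻¹) * v⁻¹ * (n * v * n⁻¹)⁻¹ ∈ pPrimeCore 2 X) (g : X) :
    v * (g * v * g⁻¹) * v⁻¹ * (g * v * g⁻¹)⁻¹ ∈ pPrimeCore 2 X := by
  haveI : Fact (Nat.Prime 2) := ⟨Nat.prime_two⟩
  let q := QuotientGroup.mk' (pPrimeCore 2 X)
  have hq : ∀ {a b : X}, a * b * a⁻¹ * b⁻¹ ∈ pPrimeCore 2 X ↔ Commute (q a) (q b) := by
    intro a b
    rw [← QuotientGroup.eq_one_iff]
    change q (a * b * a⁻¹ * b⁻¹) = 1 ↔ _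
    rw [map_mul, map_mul, map_mul, map_inv, map_inv]
    exact mul_inv_eq_one.trans mul_inv_eq_iff_eq_mul
  rw [hq]
  set N' := N.map q with hN'
  haveI hN'n : N'.Normal := hN.map q (QuotientGroup.mk'_surjective _)
  set T : Set (X ⧸ pPrimeCore 2 X) := {x | ∃ n ∈ N, x = q (n * v * n⁻¹)} with hT
  have hTT : ∀ x ∈ T, ∀ y ∈ T, Commute x y := by
    rintro _ ⟨a, ha, rfl⟩ _ ⟨b, hb, rfl⟩
    have h1 := hq.1 (hc (a⁻¹ * b) (mul_mem (inv_mem ha) hb))
    have h2 := (Commute.conj_iff (q a)).2 h1
    have e : q (b * v * b⁻¹) = q a * q (a⁻¹ * b * v * (a⁻¹ * b)⁻¹) * (q a)⁻¹ := by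
      rw [← map_inv, ← map_mul, ← map_mul]
      exact congrArg q (by group)
    rw [e, map_mul, map_mul, map_inv]
    exact h2
  set E := Subgroup.closure T with hE
  have hEc : ∀ x ∈ E, ∀ y ∈ E, Commute x y := by
    have h1 : E ≤ Subgroup.centralizer T := (Subgroup.closure_le _).2 fun x hx =>
      Subgroup.mem_centralizer_iff.2 fun y hy => hTT y hy x hx
    intro x hx
    have h2 : E ≤ Subgroup.centralizer ({x} : Set (X ⧸ pPrimeCore 2 X)) :=
      (Subgroup.closure_le _).2 fun y hy =>
        Subgroup.mem_centralizer_singleton_iff.2 (Subgroup.mem_centralizer_iff.1 (h1 hx) y hy)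
    intro y hy
    exact (Subgroup.mem_centralizer_singleton_iff.1 (h2 hy) : y * x = x * y).symm
  have hE2 : ∀ x ∈ E, x ^ 2 = 1 := by
    intro x hx
    induction hx using Subgroup.closure_induction with
    | mem x hx =>
      obtain ⟨n, -, rfl⟩ := hx
      have hv2 : v ^ 2 = 1 := orderOf_dvd_iff_pow_eq_one.1 hv.dvd
      rw [← map_pow, conj_pow, hv2, mul_one, mul_inv_cancel, map_one]
    | one => exact one_pow 2
    | mul a b ha hb iha ihb => rw [(hEc a ha b hb).mul_pow, iha, ihb, one_mul]
    | inv a ha iha => rw [inv_pow, iha, inv_one]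
  have hEN : E ≤ N' := (Subgroup.closure_le _).2 fun x hx => by
    obtain ⟨n, hn, rfl⟩ := hx
    exact Subgroup.mem_map_of_mem q (mul_mem (mul_mem hn hvN) (inv_mem hn))
  have hnorm : ∀ n ∈ N', ∀ x ∈ E, n * x * n⁻¹ ∈ E := by
    rintro _ ⟨n, hn, rfl⟩ x hx
    induction hx using Subgroup.closure_induction with
    | mem x hx =>
      obtain ⟨m, hm, rfl⟩ := hx
      refine Subgroup.subset_closure ⟨n * m, mul_mem hn hm, ?_⟩
      rw [← map_inv, ← map_mul, ← map_mul]
      exact congrArg q (by group)
    | one => rw [mul_one, mul_inv_cancel]; exact one_mem E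
    | mul a b ha hb iha ihb =>
      rw [show q n * (a * b) * (q n)⁻¹ = q n * a * (q n)⁻¹ * (q n * b * (q n)⁻¹) by group]
      exact mul_mem iha ihb
    | inv a ha iha =>
      rw [← conj_inv]
      exact inv_mem iha
  have hEcore : E ≤ pCore 2 (X ⧸ pPrimeCore 2 X) := by
    intro x hx
    have h1 : E.subgroupOf N' ≤ pCore 2 N' :=
      Cores.le_pCore ⟨fun y hy n => Subgroup.mem_subgroupOf.2 (hnorm n n.2 y hy)⟩
        (fun y => ⟨1, Subtype.ext (Subtype.ext (hE2 _ y.2))⟩)
    have h2 : x ∈ (pCore 2 N').map N'.subtype :=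
      ⟨⟨x, hEN hx⟩, h1 (Subgroup.mem_subgroupOf.2 hx), rfl⟩
    rw [Cores.pCore_map_subtype] at h2
    exact h2.1
  have hvE : q v ∈ pCore 2 (X ⧸ pPrimeCore 2 X) :=
    hEcore (Subgroup.subset_closure ⟨1, one_mem N, by simp⟩)
  set Q := Subgroup.centralizer ({q v} : Set (X ⧸ pPrimeCore 2 X)) with hQ
  have hQodd : ¬ 2 ∣ Q.index := by
    have h1 : (Subgroup.centralizer ({v} : Set X)).map q ≤ Q := by
      rintro _ ⟨s, hs, rfl⟩
      refine Subgroup.mem_centralizer_singleton_iff.2 ?_
      rw [← map_mul, ← map_mul, Subgroup.mem_centralizer_singleton_iff.1 hs]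
    have h2 := (Subgroup.index_dvd_of_le h1).trans
      (Subgroup.index_map_dvd _ (QuotientGroup.mk'_surjective _))
    exact fun h3 => Nat.not_even_iff_odd.2 hodd (even_iff_two_dvd.2 (h3.trans h2))
  obtain ⟨P⟩ : Nonempty (Sylow 2 Q) := inferInstance
  have hP : ¬ 2 ∣ ((P : Subgroup Q).map Q.subtype).index := by
    rw [Subgroup.index_map_subtype]
    exact fun h3 => ((Nat.prime_two.dvd_mul).1 h3).elim P.not_dvd_index hQodd
  have hle : pCore 2 (X ⧸ pPrimeCore 2 X) ≤ Q :=
    (Cores.pCore_le_sylow ((P.2.map Q.subtype).toSylow hP)).trans (Subgroup.map_subtype_le _)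
  have h5 := (Cores.pCore_normal 2 (X ⧸ pPrimeCore 2 X)).conj_mem _ hvE (q g)
  rw [← map_inv, ← map_mul, ← map_mul] at h5
  exact (Subgroup.mem_centralizer_singleton_iff.1 (hle h5) : _ * q v = q v * _).symm

namespace RegularClass

/-- The hypotheses pass to a subgroup containing the centraliser of `v`. -/
theorem subgroupOf [Finite X] {v : X} {J C : Subgroup X} (h : RegularClass v J C) {Y : Subgroup X}
    (hY : Subgroup.centralizer ({v} : Set X) ≤ Y) :
    RegularClass (⟨v, hY (mem_cent.2 (Commute.refl v))⟩ : Y) (J.subgroupOf Y) (C.subgroupOf Y) := by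
  have hcomm : ∀ {a b : Y}, Commute (a : X) (b : X) → Commute a b := fun hab => Subtype.ext hab
  have hcard : ∀ W : Subgroup X, Nat.card (W.subgroupOf Y) ∣ Nat.card W := fun W => by
    rw [← Subgroup.card_map_of_injective Y.subtype_injective, Subgroup.subgroupOf_map_subtype]
    exact Subgroup.card_dvd_of_le inf_le_left
  exact
  { two := (Subgroup.orderOf_coe _).symm.trans h.two
    comm := fun x hx y hy => hcomm (h.comm x hx y hy)
    norm := fun c hc => Subgroup.mem_normalizer_iff.2 fun j =>
      Subgroup.mem_normalizer_iff.1 (h.norm hc) (j : X)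
    cent := fun c hc => hcomm (h.cent c hc)
    semireg := fun j hj e => Subtype.ext (h.semireg j hj (e.map Y.subtype))
    trans := fun g => by
      obtain ⟨j, hj, s, hs, e⟩ := h.exists_mem_mul (g : X)
      have hjY : j ∈ Y := by
        rw [show j = (g : X) * s⁻¹ by rw [e, mul_inv_cancel_right]]
        exact mul_mem g.2 (inv_mem (hY (mem_cent.2 hs)))
      refine ⟨⟨j, hjY⟩, hj, Subtype.ext ?_⟩
      show (g : X) * v * (g : X)⁻¹ = j * v * j⁻¹
      rw [e]
      calc j * s * v * (j * s)⁻¹ = j * (s * v * s⁻¹) * j⁻¹ := by group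
        _ = j * v * j⁻¹ := by rw [hs.eq, mul_inv_cancel_right]
    fpf := fun c hc j hj e =>
      (h.fpf c hc j hj (e.map Y.subtype)).imp (fun e' => Subtype.ext e') fun e' => Subtype.ext e'
    ti := fun g x hx hx1 hg => by
      obtain ⟨j, hj, c, hc, e⟩ := h.ti g x hx (fun e => hx1 (Subtype.ext e)) hg
      have hcY : c ∈ Y := hY (mem_cent.2 (h.cent c hc))
      have hjY : j ∈ Y := by
        rw [show j = (g : X) * c⁻¹ by rw [e, mul_inv_cancel_right]]
        exact mul_mem g.2 (inv_mem hcY)
      exact ⟨⟨j, hjY⟩, hj, ⟨c, hcY⟩, hc, Subtype.ext e⟩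
    oddJ := h.oddJ.of_dvd_nat (hcard J)
    oddC := h.oddC.of_dvd_nat (hcard C)
    coprime := (h.coprime.coprime_dvd_left (hcard C)).coprime_dvd_right (hcard J) }

theorem commutator_mem_core_aux (k : ℕ) : ∀ (X : Type u) [Group X] [Finite X] (v : X)
    (J C : Subgroup X), Nat.card X = k → RegularClass v J C → ∀ g : X,
      v * (g * v * g⁻¹) * v⁻¹ * (g * v * g⁻¹)⁻¹ ∈ pPrimeCore 2 X := by
  induction k using Nat.strong_induction_on with
  | _ k ih =>
    intro X _ _ v J C hk h g
    classical
    haveI := Fintype.ofFinite X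
    haveI := Fintype.ofFinite J
    haveI := Fintype.ofFinite C
    haveI := Fintype.ofFinite (IrrCharacter X)
    haveI := Fintype.ofFinite (IrrCharacter J)
    rcases h.dichotomy with hall | ⟨l, hl, horb⟩
    · exact h.commutator_mem_of_allInOne hall g
    obtain ⟨N, hN, hvN, hne⟩ := h.exists_normal_of_orbit hl horb
    haveI := hN
    set Y := N ⊔ Subgroup.centralizer ({v} : Set X) with hY
    have hYlt : Nat.card Y < k := hk ▸ lt_of_le_of_ne (Subgroup.card_le_card_group Y)
      fun e => hne ((Subgroup.card_eq_iff_eq_top Y).1 e)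
    refine commutator_mem_core_of_normal h.two hN hvN (h.index_cent ▸ h.oddJ) (fun n hn => ?_) g
    have hY' : Subgroup.centralizer ({v} : Set X) ≤ Y := le_sup_right
    have hNY : N ≤ Y := le_sup_left
    have h1 := ih _ hYlt Y _ _ _ rfl (h.subgroupOf hY') ⟨n, hNY hn⟩
    set M := ((pPrimeCore 2 Y).map Y.subtype).subgroupOf N with hM
    have hMn : M.Normal := ⟨fun x hx m => by
      obtain ⟨y, hy, e⟩ := Subgroup.mem_subgroupOf.1 hx
      exact Subgroup.mem_subgroupOf.2 ⟨⟨m, hNY m.2⟩ * y * ⟨m, hNY m.2⟩⁻¹,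
        (Cores.pPrimeCore_normal 2 Y).conj_mem y hy _, by simp [← e]⟩⟩
    have hMcard : (Nat.card M).Coprime 2 := by
      refine (Cores.coprime_card_pPrimeCore (G := Y) 2).coprime_dvd_left ?_
      rw [← Subgroup.card_map_of_injective N.subtype_injective, hM,
        Subgroup.subgroupOf_map_subtype]
      exact (Subgroup.card_dvd_of_le inf_le_left).trans (Subgroup.card_map_dvd _ _)
    have h2 : v * (n * v * n⁻¹) * v⁻¹ * (n * v * n⁻¹)⁻¹ ∈ (pPrimeCore 2 N).map N.subtype := by
      refine ⟨⟨_, mul_mem (mul_mem (mul_mem hvN (mul_mem (mul_mem hn hvN) (inv_mem hn)))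
        (inv_mem hvN)) (inv_mem (mul_mem (mul_mem hn hvN) (inv_mem hn)))⟩,
        Cores.le_pPrimeCore hMn hMcard (Subgroup.mem_subgroupOf.2 ⟨_, h1, rfl⟩), rfl⟩
    rw [Cores.pPrimeCore_map_subtype] at h2
    exact h2.1

/-- **C7.** The conjugates of `v` commute with it modulo the odd core. -/
theorem commutator_mem_core [Finite X] {v : X} {J C : Subgroup X} (h : RegularClass v J C) (g : X) :
    v * (g * v * g⁻¹) * v⁻¹ * (g * v * g⁻¹)⁻¹ ∈ pPrimeCore 2 X :=
  commutator_mem_core_aux _ X v J C rfl h g

end RegularClass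

/-- **C7, form used for Bender's theorem.** -/
theorem coreTwo_of_regularClass [Finite X] {H : Subgroup X} {v : H} {J C : Subgroup H}
    (h : RegularClass v J C) (hall : ∀ t : H, orderOf (t : X) = 2 → ∃ g : H, t = g * v * g⁻¹) :
    CoreTwo H := by
  intro s t hs ht
  obtain ⟨a, rfl⟩ := hall s hs
  obtain ⟨b, rfl⟩ := hall t ht
  have h1 := (Cores.pPrimeCore_normal 2 ↥H).conj_mem _ (h.commutator_mem_core (a⁻¹ * b)) a
  convert h1 using 1
  group

end Cfsg.Agent.Bender
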